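import Cfsg.Agent.Lib.FischerMTypes.Primitive
import Cfsg.Agent.Lib.ThreeTranspositions.Maximal
import Cfsg.Prelude.Def_FischerSpaces

/-!
# Fischer's theorem: interface

The list, the nodes of the induction as propositions (no proofs).  A node may use the theorem for
groups of smaller order (`Below`).

Owner: helper75 (captain).  Node table: notes/fischer_theorem_nodes_helper75.md.
-/

set_option autoImplicit false

namespace Cfsg.Agent.Lib.FischerThm

open Cfsg Cfsg.Agent.Lib.FischerMTypes.Primitive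

universe u

/-- a primitive centreless 3-transposition group of width at least two -/
structure Prim {G : Type u} [Group G] (D : Set G) : Prop where
  hD : Cfsg.IsThreeTranspositionGroup D
  hprim : Cfsg.IsPrimitiveUnderConj D
  hZ : Subgroup.center G = ⊥
  hw : ∃ a ∈ D, ∃ b ∈ D, b ≠ a ∧ Commute a b

variable {G : Type u} [Group G]

/-- the symmetric group with its transpositions -/
def IsSymClass (D : Set G) (n : ℕ) : Prop :=
  ∃ e : G ≃* Equiv.Perm (Fin n), e '' D = {σ : Equiv.Perm (Fin n) | σ.IsSwap}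

/-- the symplectic group over two elements with its transvections -/
def IsSpClass (D : Set G) (m : ℕ) : Prop :=
  ∃ e : G ≃* Matrix.symplecticGroup (Fin m) (ZMod 2), e '' D = {g : Matrix.symplecticGroup (Fin m) (ZMod 2) |
    ((g : Matrix (Fin m ⊕ Fin m) (Fin m ⊕ Fin m) (ZMod 2)) - 1).rank = 1}

/-- the unitary group over four elements with its transvections -/
def IsUClass (D : Set G) (n : ℕ) : Prop :=
  ∃ (F : Type) (_ : Field F) (_ : Fintype F), Fintype.card F = 4 ∧ ∃ e : G ≃* Cfsg.PSU n F 2,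
    e '' D = (QuotientGroup.mk : ↥(Cfsg.SU n F 2) → Cfsg.PSU n F 2) '' {g : ↥(Cfsg.SU n F 2) |
      (((g : Matrix.SpecialLinearGroup (Fin n) F) : Matrix (Fin n) (Fin n) F) - 1).rank = 1}

/-- the orthogonal group of plus type over two elements with its transvections -/
def IsOPlusClass (D : Set G) (m : ℕ) : Prop :=
  ∃ e : G ≃* ↥(Cfsg.isometryGroup (ZMod 2) (Cfsg.quadFormPlus m (ZMod 2))),
    e '' D = {g : ↥(Cfsg.isometryGroup (ZMod 2) (Cfsg.quadFormPlus m (ZMod 2))) |
      (((g : GL (Fin m ⊕ Fin m) (ZMod 2)) : Matrix (Fin m ⊕ Fin m) (Fin m ⊕ Fin m) (ZMod 2)) - 1).rank = 1}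

/-- the orthogonal group of minus type over two elements (dimension `2m + 2`) with its transvections -/
def IsOMinusClass (D : Set G) (m : ℕ) : Prop :=
  ∃ e : G ≃* ↥(Cfsg.isometryGroup (ZMod 2) (Cfsg.quadFormMinus m (ZMod 2) 1 1)),
    e '' D = {g : ↥(Cfsg.isometryGroup (ZMod 2) (Cfsg.quadFormMinus m (ZMod 2) 1 1)) |
      (((g : GL ((Fin m ⊕ Fin m) ⊕ Fin 2) (ZMod 2)) : Matrix ((Fin m ⊕ Fin m) ⊕ Fin 2) ((Fin m ⊕ Fin m) ⊕ Fin 2)
        (ZMod 2)) - 1).rank = 1}

/-- the projective reflection group of norm `c` of the form `Q` with its reflections -/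
def IsOrth3With (D : Set G) {n : ℕ} (Q : QuadraticForm (ZMod 3) (Fin n → ZMod 3)) (c : ZMod 3) : Prop :=
  (QuadraticMap.polarBilin Q).Nondegenerate ∧ c ≠ 0 ∧
    ∃ e : G ≃* ↥(Cfsg.reflectionSubgroup (⇑Q) c) ⧸ Subgroup.center ↥(Cfsg.reflectionSubgroup (⇑Q) c),
      e '' D = (QuotientGroup.mk : ↥(Cfsg.reflectionSubgroup (⇑Q) c) → _) '' {g : ↥(Cfsg.reflectionSubgroup (⇑Q) c) |
        (g : ↥(Cfsg.isometryGroup (ZMod 3) (⇑Q))) ∈ Cfsg.reflectionsOfNorm (⇑Q) c}

/-- some projective reflection group in dimension `n` -/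
def IsOrth3Class (D : Set G) (n : ℕ) : Prop :=
  ∃ (Q : QuadraticForm (ZMod 3) (Fin n → ZMod 3)) (c : ZMod 3), IsOrth3With D Q c

/-- the members of symplectic type -/
def InSymp (D : Set G) : Prop :=
  (∃ n, 5 ≤ n ∧ IsSymClass D n) ∨ (∃ m, 2 ≤ m ∧ IsSpClass D m) ∨ (∃ m, 3 ≤ m ∧ IsOPlusClass D m) ∨
    (∃ m, 2 ≤ m ∧ IsOMinusClass D m)

/-- the list of Fischer's theorem -/
def InList (D : Set G) : Prop :=
  InSymp D ∨ (∃ n, 4 ≤ n ∧ IsUClass D n) ∨ (∃ n, 5 ≤ n ∧ IsOrth3Class D n) ∨
    Cfsg.IsOfTypeM22 G D ∨ Cfsg.IsOfTypeM23 G D ∨ Cfsg.IsOfTypeM24 G D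

/-- no affine plane: a member commutes with some member of each line avoiding it -/
def NoPlane (D : Set G) : Prop :=
  ∀ a ∈ D, ∀ b ∈ D, ∀ c ∈ D, ¬ Commute a b → ¬ Commute a c → ¬ Commute b c → c ≠ a * b * a →
    Commute c (a * b * a)

/-- the subgroup generated by the members other than `d` commuting with `d` -/
abbrev Hd (D : Set G) (d : G) : Subgroup G := Subgroup.closure (perp D d)

/-- the central largest normal `p`-subgroup of `Hd D d` -/
def LocalCentral (p : ℕ) (D : Set G) (d : G) : Prop :=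
  Cfsg.pCore p ↥(Hd D d) ≤ Subgroup.center ↥(Hd D d)

/-- the class induced on `Hd D d` modulo its centre -/
def perpClass (D : Set G) (d : G) : Set (↥(Hd D d) ⧸ Subgroup.center ↥(Hd D d)) :=
  (QuotientGroup.mk : ↥(Hd D d) → _) '' {x : ↥(Hd D d) | (x : G) ∈ perp D d}

/-- both local cores central at a member -/
def LocalCores (D : Set G) : Prop := ∀ d ∈ D, LocalCentral 2 D d ∧ LocalCentral 3 D d

end Cfsg.Agent.Lib.FischerThm

namespace Cfsg.Agent.Lib.FischerThm

open Cfsg

universe u

/-- the theorem below a given order -/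
def Below (N : ℕ) : Prop :=
  ∀ (G : Type u) [Group G] [Finite G] (D : Set G), Nat.card G < N → Prim D → InList D

/-- node A: no affine plane gives symplectic type -/
def NodeA : Prop :=
  ∀ (G : Type u) [Group G] [Finite G] (D : Set G), Prim D → NoPlane D → InSymp D

/-- node B: a non-central local 3-core gives the symmetric group of degree five -/
def NodeB : Prop :=
  ∀ (G : Type u) [Group G] [Finite G] (D : Set G), Prim D → ∀ d ∈ D, ¬ LocalCentral 3 D d → IsSymClass D 5

/-- node C: affine planes and a non-central local 2-core give the unitary groups -/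
def NodeC : Prop :=
  ∀ (G : Type u) [Group G] [Finite G] (D : Set G), Below.{u} (Nat.card G) → Prim D → ¬ NoPlane D →
    ∀ d ∈ D, ¬ LocalCentral 2 D d → ∃ n, 4 ≤ n ∧ IsUClass D n

/-- node D: with central local cores the local group is again primitive, centreless, of width two -/
def NodeD : Prop :=
  ∀ (G : Type u) [Group G] [Finite G] (D : Set G), Prim D → LocalCores D → ∀ d ∈ D,
    Prim (perpClass D d) ∧ Nat.card (↥(Hd D d) ⧸ Subgroup.center ↥(Hd D d)) < Nat.card G

/-- node E, first half: a local group of reflections mod 3 gives one dimension more -/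
def NodeE : Prop :=
  ∀ (G : Type u) [Group G] [Finite G] (D : Set G), Below.{u} (Nat.card G) → Prim D → LocalCores D →
    ∀ d ∈ D, ∀ n, 5 ≤ n → IsOrth3Class (perpClass D d) n → InList D

/-- node S: the exceptional isomorphisms that feed node E -/
def NodeS : Prop :=
  ∀ (G : Type u) [Group G] [Finite G] (D : Set G), (IsUClass D 4 ∨ IsOMinusClass D 2) → IsOrth3Class D 5

/-- node F22: a local group `U6(2)` gives type M(22) -/
def NodeF22 : Prop :=
  ∀ (G : Type u) [Group G] [Finite G] (D : Set G), Below.{u} (Nat.card G) → Prim D → LocalCores D →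
    ∀ d ∈ D, IsUClass (perpClass D d) 6 → Cfsg.IsOfTypeM22 G D

/-- node F23: a local group of type M(22) gives type M(23) -/
def NodeF23 : Prop :=
  ∀ (G : Type u) [Group G] [Finite G] (D : Set G), Below.{u} (Nat.card G) → Prim D → LocalCores D →
    ∀ d ∈ D, Cfsg.IsOfTypeM22 _ (perpClass D d) → Cfsg.IsOfTypeM23 G D

/-- node F24: a local group of type M(23) gives type M(24) -/
def NodeF24 : Prop :=
  ∀ (G : Type u) [Group G] [Finite G] (D : Set G), Below.{u} (Nat.card G) → Prim D → LocalCores D →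
    ∀ d ∈ D, Cfsg.IsOfTypeM23 _ (perpClass D d) → Cfsg.IsOfTypeM24 G D

/-- node G1: with affine planes a local group of symplectic type is `O₆⁻(2)` -/
def NodeG1 : Prop :=
  ∀ (G : Type u) [Group G] [Finite G] (D : Set G), Below.{u} (Nat.card G) → Prim D → LocalCores D →
    ¬ NoPlane D → ∀ d ∈ D, InSymp (perpClass D d) → IsOMinusClass (perpClass D d) 2

/-- node G2: unitary local groups other than in dimensions four and six, and type M(24), do not occur -/
def NodeG2 : Prop :=
  ∀ (G : Type u) [Group G] [Finite G] (D : Set G), Below.{u} (Nat.card G) → Prim D → LocalCores D →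
    ∀ d ∈ D, ((∃ n, 4 ≤ n ∧ n ≠ 4 ∧ n ≠ 6 ∧ IsUClass (perpClass D d) n) ∨
      Cfsg.IsOfTypeM24 _ (perpClass D d)) → False

/-- node H1: symplectic and unitary groups have a non-central local 2-core, `S₅` a non-central local 3-core,
`S₆` a non-central local 2-core -/
def NodeH1 : Prop :=
  ∀ (G : Type u) [Group G] [Finite G] (D : Set G), Prim D → ∀ d ∈ D,
    (((∃ m, 2 ≤ m ∧ IsSpClass D m) ∨ (∃ n, 4 ≤ n ∧ IsUClass D n) ∨ IsSymClass D 6) → ¬ LocalCentral 2 D d) ∧
      (IsSymClass D 5 → ¬ LocalCentral 3 D d)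

/-- the theorem in the form used by the induction -/
def Main : Prop :=
  ∀ (G : Type u) [Group G] [Finite G] (D : Set G), Prim D → InList D

end Cfsg.Agent.Lib.FischerThm
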