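import Cfsg.Agent.Lib.FischerThm.Params
import Cfsg.Agent.Lib.Cores.Basic

/-!
# Fischer's theorem: the local groups

Conjugation between the local groups, local cores at one member, the local class.

Owner: helper75.
-/

set_option autoImplicit false
set_option linter.style.haveILetI false

namespace Cfsg.Agent.Lib.FischerThm

open Cfsg Cfsg.Agent.Lib.FischerMTypes.Primitive Cfsg.Agent.Lib.FischerMTypes
open Cfsg.Agent.Lib.FischerMTypes.Unique

universe u

variable {G : Type u} [Group G] [Finite G] {D : Set G}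

theorem map_center {A B : Type*} [Group A] [Group B] (e : A ≃* B) :
    (Subgroup.center A).map e.toMonoidHom = Subgroup.center B := by
  ext y
  constructor
  · rintro ⟨x, hx, rfl⟩
    refine Subgroup.mem_center_iff.2 fun z => ?_
    obtain ⟨z, rfl⟩ := e.surjective z
    show e z * e x = e x * e z
    rw [← map_mul, ← map_mul, Subgroup.mem_center_iff.1 hx z]
  · intro hy
    refine ⟨e.symm y, Subgroup.mem_center_iff.2 fun z => e.injective ?_, e.apply_symm_apply y⟩
    rw [map_mul, map_mul, e.apply_symm_apply, Subgroup.mem_center_iff.1 hy]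

namespace Prim

variable (hP : Prim D)
include hP

theorem map_Hd (g d : G) : (Hd D d).map (MulAut.conj g).toMonoidHom = Hd D (g * d * g⁻¹) := by
  rw [Hd, MonoidHom.map_closure]
  exact congrArg Subgroup.closure (hP.perp_image g d)

/-- conjugation between local groups -/
noncomputable def hdEquiv (g d : G) : ↥(Hd D d) ≃* ↥(Hd D (g * d * g⁻¹)) :=
  ((MulAut.conj g).subgroupMap (Hd D d)).trans (MulEquiv.subgroupCongr (hP.map_Hd g d))

theorem hdEquiv_val (g d : G) (x : ↥(Hd D d)) : (hP.hdEquiv g d x : G) = g * x * g⁻¹ := rfl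

/-- conjugation between local groups modulo their centres -/
noncomputable def perpEquiv (g d : G) :
    ↥(Hd D d) ⧸ Subgroup.center ↥(Hd D d) ≃*
      ↥(Hd D (g * d * g⁻¹)) ⧸ Subgroup.center ↥(Hd D (g * d * g⁻¹)) :=
  QuotientGroup.congr _ _ (hP.hdEquiv g d) (map_center _)

theorem perpEquiv_image (g d : G) :
    hP.perpEquiv g d '' perpClass D d = perpClass D (g * d * g⁻¹) := by
  ext q
  constructor
  · rintro ⟨_, ⟨x, hx, rfl⟩, rfl⟩
    exact ⟨hP.hdEquiv g d x, (conj_mem_perp_iff hP.hD g d x).2 hx, rfl⟩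
  · rintro ⟨y, hy, rfl⟩
    obtain ⟨x, rfl⟩ := (hP.hdEquiv g d).surjective y
    exact ⟨_, ⟨x, (conj_mem_perp_iff hP.hD g d x).1 hy, rfl⟩, rfl⟩

theorem localCentral_conj {p : ℕ} (g d : G) (h : LocalCentral p D d) : LocalCentral p D (g * d * g⁻¹) := by
  rw [LocalCentral, ← Cores.map_pCore_equiv (hP.hdEquiv g d), ← map_center (hP.hdEquiv g d)]
  exact Subgroup.map_mono h

theorem localCores_of_one {d : G} (hd : d ∈ D) (h2 : LocalCentral 2 D d) (h3 : LocalCentral 3 D d) :
    LocalCores D := fun e he => by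
  obtain ⟨g, rfl⟩ := hP.hprim.1 d hd e he
  exact ⟨hP.localCentral_conj g d h2, hP.localCentral_conj g d h3⟩

theorem subsetEq : SubsetEq D := subsetEq_of_primitive hP.hD hP.hprim hP.hZ

/-- the perp set is in bijection with the local class -/
theorem im_bijOn {d : G} (hd : d ∈ D) :
    Set.BijOn (fun x : ↥(Hd D d) => (x : ↥(Hd D d) ⧸ Subgroup.center ↥(Hd D d)))
      {x | (x : G) ∈ perp D d} (perpClass D d) :=
  ⟨fun x hx => ⟨x, hx, rfl⟩, fun _ hx _ hy h => Subtype.ext (im_injective' hP.hD hP.subsetEq hd hx hy h),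
    fun _ hq => hq⟩

theorem perpClass_ncard {d : G} (hd : d ∈ D) : (perpClass D d).ncard = (perp D d).ncard := by
  rw [← (hP.im_bijOn hd).image_eq, Set.InjOn.ncard_image (hP.im_bijOn hd).injOn,
    ← Set.ncard_image_of_injective {x : ↥(Hd D d) | (x : G) ∈ perp D d} Subtype.val_injective]
  congr 1
  ext y
  exact ⟨fun ⟨x, hx, e⟩ => e ▸ hx, fun hy => ⟨⟨y, Subgroup.subset_closure hy⟩, hy, rfl⟩⟩

theorem one_notMem_perpClass {d : G} (hd : d ∈ D) :
    (1 : ↥(Hd D d) ⧸ Subgroup.center ↥(Hd D d)) ∉ perpClass D d := by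
  rintro ⟨x, hx, h⟩
  exact im_ne_one' hP.subsetEq hd hx h

/-- the local class is closed and generates -/
theorem perpClass_group {d : G} (hd : d ∈ D) : Cfsg.IsThreeTranspositionGroup (perpClass D d) := by
  have hc := perp_closed hP.hD d
  set H := Hd D d
  have hsq : ∀ x : ↥H, (x : G) ∈ perp D d → x * x = 1 := fun x hx => Subtype.ext (hP.sq hx.1)
  refine ⟨⟨?_, ?_⟩, ?_, ?_⟩
  · rintro _ ⟨x, hx, rfl⟩
    refine orderOf_eq_prime ?_ (im_ne_one' hP.subsetEq hd hx)
    rw [pow_two, ← QuotientGroup.mk_mul, hsq x hx, QuotientGroup.mk_one]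
  · rintro _ ⟨x, hx, rfl⟩ _ ⟨y, hy, rfl⟩
    rw [← QuotientGroup.mk_mul, ← QuotientGroup.mk_pow, ← QuotientGroup.mk_pow]
    rcases hP.hD.1.2 _ hx.1 _ hy.1 with h | h
    · exact Or.inl (by rw [show (x * y) ^ 2 = 1 from Subtype.ext h, QuotientGroup.mk_one])
    · exact Or.inr (by rw [show (x * y) ^ 3 = 1 from Subtype.ext h, QuotientGroup.mk_one])
  · intro q
    obtain ⟨g, rfl⟩ := QuotientGroup.mk_surjective q
    rintro _ ⟨x, hx, rfl⟩
    refine ⟨g * x * g⁻¹, ?_, by simp⟩
    have hcl : ∀ h ∈ Hd D d, ∀ y ∈ perp D d, h * y * h⁻¹ ∈ perp D d := by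
      intro h hh
      induction hh using Subgroup.closure_induction_left with
      | one => intro y hy; simpa using hy
      | mul_left a ha b _ ih =>
        intro y hy
        rw [show a * b * y * (a * b)⁻¹ = a * (b * y * b⁻¹) * a⁻¹ by group]
        rw [hP.inv ha.1]
        exact hc.2 a ha _ (ih y hy)
      | inv_mul_cancel a ha b _ ih =>
        intro y hy
        rw [show a⁻¹ * b * y * (a⁻¹ * b)⁻¹ = a⁻¹ * (b * y * b⁻¹) * a⁻¹⁻¹ by group, inv_inv, hP.inv ha.1]
        exact hc.2 a ha _ (ih y hy)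
    exact hcl g g.2 x hx
  · rw [perpClass, show ((QuotientGroup.mk : ↥H → ↥H ⧸ Subgroup.center ↥H)) =
      ⇑(QuotientGroup.mk' (Subgroup.center ↥H)) from rfl, ← MonoidHom.map_closure]
    have : Subgroup.closure {x : ↥H | (x : G) ∈ perp D d} = ⊤ := Subgroup.closure_closure_coe_preimage
    rw [this, Subgroup.map_top_of_surjective _ (QuotientGroup.mk'_surjective _)]

end Prim

end Cfsg.Agent.Lib.FischerThm
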