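import Cfsg.Agent.Lib.FischerThm.Defs

/-!
# Fischer's theorem: the induction from its nodes

Owner: helper75.
-/

set_option autoImplicit false

namespace Cfsg.Agent.Lib.FischerThm

open Cfsg Cfsg.Agent.Lib.FischerMTypes.Primitive

universe u

/-- all nodes but the top -/
structure Nodes : Prop where
  A : NodeA.{u}
  B : NodeB.{u}
  C : NodeC.{u}
  D : NodeD.{u}
  E : NodeE.{u}
  S : NodeS.{u}
  F22 : NodeF22.{u}
  F23 : NodeF23.{u}
  F24 : NodeF24.{u}
  G1 : NodeG1.{u}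
  G2 : NodeG2.{u}

theorem main_of_nodes (h : Nodes.{u}) : Main.{u} := by
  suffices key : ∀ N, ∀ (G : Type u) [Group G] [Finite G] (D : Set G), Nat.card G = N → Prim D → InList D from
    fun G _ _ D hP => key _ G D rfl hP
  intro N
  induction N using Nat.strong_induction_on with
  | _ N ih =>
    intro G _ _ D hN hP
    subst hN
    have hb : Below.{u} (Nat.card G) := fun H _ _ E hlt hE => ih _ hlt H E rfl hE
    by_cases hpl : NoPlane D
    · exact Or.inl (h.A G D hP hpl)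
    by_cases h3 : ∃ d ∈ D, ¬ LocalCentral 3 D d
    · obtain ⟨d, hd, hd3⟩ := h3
      exact Or.inl (Or.inl ⟨5, le_rfl, h.B G D hP d hd hd3⟩)
    by_cases h2 : ∃ d ∈ D, ¬ LocalCentral 2 D d
    · obtain ⟨d, hd, hd2⟩ := h2
      exact Or.inr (Or.inl (h.C G D hb hP hpl d hd hd2))
    push Not at h2 h3
    have hL : LocalCores D := fun d hd => ⟨h2 d hd, h3 d hd⟩
    obtain ⟨d, hd, -⟩ := hP.hprim.2.1
    obtain ⟨hE, hlt⟩ := h.D G D hP hL d hd
    rcases hb _ _ hlt hE with hs | ⟨n, hn, hu⟩ | ⟨n, hn, ho⟩ | h22 | h23 | h24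
    · exact h.E G D hb hP hL d hd 5 le_rfl (h.S _ _ (Or.inr (h.G1 G D hb hP hL hpl d hd hs)))
    · rcases eq_or_ne n 4 with rfl | h4
      · exact h.E G D hb hP hL d hd 5 le_rfl (h.S _ _ (Or.inl hu))
      rcases eq_or_ne n 6 with rfl | h6
      · exact Or.inr (Or.inr (Or.inr (Or.inl (h.F22 G D hb hP hL d hd hu))))
      · exact (h.G2 G D hb hP hL d hd (Or.inl ⟨n, hn, h4, h6, hu⟩)).elim
    · exact h.E G D hb hP hL d hd n hn ho
    · exact Or.inr (Or.inr (Or.inr (Or.inr (Or.inl (h.F23 G D hb hP hL d hd h22)))))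
    · exact Or.inr (Or.inr (Or.inr (Or.inr (Or.inr (h.F24 G D hb hP hL d hd h23)))))
    · exact (h.G2 G D hb hP hL d hd (Or.inr h24)).elim

end Cfsg.Agent.Lib.FischerThm
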