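import Cfsg.Agent.Lib.FischerThm.Defs
import Cfsg.Agent.Lib.FischerMTypes.Unique

/-!
# Fischer's theorem: parameters of a primitive centreless group

Constants k, lambda, mu by rank three, the count of far members, and the plane criterion.

Owner: helper75.
-/

set_option autoImplicit false
set_option linter.style.haveILetI false

namespace Cfsg.Agent.Lib.FischerThm

open Cfsg Cfsg.Agent.Lib.FischerMTypes.Primitive Cfsg.Agent.Lib.ThreeTranspositions
open Cfsg.Agent.Lib.RankThree (Orb)

universe u

variable {G : Type u} [Group G] [Finite G] {D : Set G}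

/-- the members not commuting with `a` -/
abbrev far (D : Set G) (a : G) : Set G := {y : G | y ∈ D ∧ ¬ Commute a y}

namespace Prim

variable (hP : Prim D)
include hP

omit [Finite G] in
theorem cls : IsThreeTranspositionClass D := class_of_primitive hP.hD hP.hprim

omit [Finite G] in
theorem sq {x : G} (hx : x ∈ D) : x * x = 1 := by
  rw [← pow_two, ← hP.hD.1.1 x hx, pow_orderOf_eq_one]

omit [Finite G] in
theorem inv {x : G} (hx : x ∈ D) : x⁻¹ = x := inv_eq_of_mul_eq_one_right (hP.sq hx)

theorem wall : ∀ a ∈ D, ∃ b ∈ D, b ≠ a ∧ Commute a b := by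
  intro u hu
  obtain ⟨a, ha, b, hb, hab, hc⟩ := hP.hw
  obtain ⟨g, rfl⟩ := hP.hprim.1 a ha u hu
  exact ⟨g * b * g⁻¹, hP.hD.2.1 g b hb, fun h => hab (by simpa using h), (Commute.conj_iff g).2 hc⟩

theorem modules : RankThree.ModulesTrivial D :=
  modulesTrivial_of_primitive (isClosedSet_of_group hP.hD) hP.hprim

/-- all far pairs are conjugate -/
theorem orb_far {a b x y : G} (ha : a ∈ D) (hb : b ∈ far D a) (hx : x ∈ D) (hy : y ∈ far D x) :
    ∃ g : G, g * a * g⁻¹ = x ∧ g * b * g⁻¹ = y :=
  RankThree.orb_adj hP.cls hP.modules hP.wall a ha b hb.1 x hx y hy.1 hb.2 hy.2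

/-- all commuting pairs are conjugate -/
theorem orb_near {a b x y : G} (ha : a ∈ D) (hb : b ∈ perp D a) (hx : x ∈ D) (hy : y ∈ perp D x) :
    ∃ g : G, g * a * g⁻¹ = x ∧ g * b * g⁻¹ = y :=
  RankThree.orb_com hP.cls hP.modules hP.wall a ha b hb.1 x hx y hy.1 hb.2.1 hy.2.1 hb.2.2 hy.2.2

/-- a conjugation carries perp sets to perp sets -/
theorem perp_image (g a : G) : (fun y => g * y * g⁻¹) '' perp D a = perp D (g * a * g⁻¹) := by
  ext z
  constructor
  · rintro ⟨y, hy, rfl⟩
    exact (conj_mem_perp_iff hP.hD g a y).2 hy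
  · intro hz
    refine ⟨g⁻¹ * z * g, (conj_mem_perp_iff hP.hD g a _).1 ?_, by group⟩
    rwa [show g * (g⁻¹ * z * g) * g⁻¹ = z by group]

theorem perp₂_image (g a b : G) :
    (fun y => g * y * g⁻¹) '' perp₂ D a b = perp₂ D (g * a * g⁻¹) (g * b * g⁻¹) := by
  rw [Set.image_inter (fun x y h => by simpa using h), hP.perp_image, hP.perp_image]

/-- the valency -/
theorem perp_ncard {a b : G} (ha : a ∈ D) (hb : b ∈ D) : (perp D a).ncard = (perp D b).ncard := by
  obtain ⟨g, rfl⟩ := hP.hprim.1 a ha b hb
  rw [← hP.perp_image, Set.ncard_image_of_injective _ fun x y h => by simpa using h]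

/-- the number of common neighbours of a far pair -/
theorem trace_ncard {a b x y : G} (ha : a ∈ D) (hb : b ∈ far D a) (hx : x ∈ D) (hy : y ∈ far D x) :
    (perp₂ D a b).ncard = (perp₂ D x y).ncard := by
  obtain ⟨g, rfl, rfl⟩ := hP.orb_far ha hb hx hy
  rw [← hP.perp₂_image, Set.ncard_image_of_injective _ fun x y h => by simpa using h]

/-- the number of common neighbours of a commuting pair -/
theorem edge_ncard {a b x y : G} (ha : a ∈ D) (hb : b ∈ perp D a) (hx : x ∈ D) (hy : y ∈ perp D x) :
    (perp₂ D a b).ncard = (perp₂ D x y).ncard := by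
  obtain ⟨g, rfl, rfl⟩ := hP.orb_near ha hb hx hy
  rw [← hP.perp₂_image, Set.ncard_image_of_injective _ fun x y h => by simpa using h]

omit [Finite G] in
theorem not_mem_perp_of_far {a b : G} (hb : b ∈ far D a) : b ∉ perp D a := fun h => hb.2 h.2.2

omit [Finite G] in
theorem mem_cases {a y : G} (hy : y ∈ D) : y = a ∨ y ∈ perp D a ∨ y ∈ far D a := by
  by_cases h : y = a
  · exact Or.inl h
  by_cases hc : Commute a y
  · exact Or.inr (Or.inl ⟨hy, h, hc⟩)
  · exact Or.inr (Or.inr ⟨hy, hc⟩)

/-- the far set, counted through the edges leaving the perp set -/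
theorem far_count {d c : G} (hd : d ∈ D) (hc : c ∈ far D d) {b : G} (hb : b ∈ perp D d) :
    (far D d).ncard * (perp₂ D d c).ncard + (perp D d).ncard * ((perp₂ D d b).ncard + 1) =
      (perp D d).ncard * (perp D d).ncard := by
  classical
  letI : Fintype G := Fintype.ofFinite G
  set A := (far D d).toFinset with hA
  set B := (perp D d).toFinset with hB
  have hsum := Finset.sum_card_bipartiteAbove_eq_sum_card_bipartiteBelow
    (fun x y : G => Commute x y) (s := A) (t := B)
  have hleft : ∀ x ∈ A, (B.bipartiteAbove (fun x y : G => Commute x y) x).card = (perp₂ D d c).ncard := by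
    intro x hx
    rw [hA, Set.mem_toFinset] at hx
    rw [← hP.trace_ncard hd hx hd hc, Set.ncard_eq_toFinset_card']
    congr 1
    ext y
    simp only [Finset.mem_bipartiteAbove, hB, Set.mem_toFinset, Set.mem_inter_iff]
    exact ⟨fun h => ⟨h.1, h.1.1, fun e => hx.2 (e ▸ h.1.2.2), h.2⟩, fun h => ⟨h.1, h.2.2.2⟩⟩
  have hright : ∀ y ∈ B, (A.bipartiteBelow (fun x y : G => Commute x y) y).card + ((perp₂ D d b).ncard + 1) =
      (perp D d).ncard := by
    intro y hy
    rw [hB, Set.mem_toFinset] at hy
    rw [hP.edge_ncard hd hb hd hy, hP.perp_ncard hd hy.1]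
    have hsplit : perp D y = {x | x ∈ far D d ∧ Commute x y} ∪ insert d (perp₂ D d y) := by
      ext x
      constructor
      · intro hx
        rcases hP.mem_cases (a := d) hx.1 with rfl | h | h
        · exact Or.inr (Or.inl rfl)
        · exact Or.inr (Or.inr ⟨h, hx⟩)
        · exact Or.inl ⟨h, hx.2.2.symm⟩
      · rintro (⟨hx, hxy⟩ | rfl | hx)
        · exact ⟨hx.1, fun e => hx.2 (e ▸ hy.2.2), hxy.symm⟩
        · exact ⟨hd, Ne.symm hy.2.1, hy.2.2.symm⟩
        · exact hx.2
    have hdis : Disjoint {x | x ∈ far D d ∧ Commute x y} (insert d (perp₂ D d y)) := by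
      rw [Set.disjoint_left]
      rintro x ⟨hx, -⟩ (rfl | h)
      · exact hx.2 (Commute.refl _)
      · exact hx.2 h.1.2.2
    rw [hsplit, Set.ncard_union_eq hdis (Set.toFinite _) (Set.toFinite _),
      Set.ncard_insert_of_notMem (fun h => h.1.2.1 rfl) (Set.toFinite _)]
    congr 1
    rw [Set.ncard_eq_toFinset_card']
    congr 1
    ext x
    simp [Finset.mem_bipartiteBelow, hA]
  rw [Finset.sum_congr rfl hleft, Finset.sum_const, smul_eq_mul] at hsum
  have hs := Finset.sum_congr rfl hright
  rw [Finset.sum_add_distrib, ← hsum, Finset.sum_const, Finset.sum_const, smul_eq_mul, smul_eq_mul] at hs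
  simpa only [hA, hB, ← Set.ncard_eq_toFinset_card'] using hs

omit [Finite G] in
/-- the third member of a line -/
theorem third_eq {d c : G} (hd : d ∈ D) (hc : c ∈ far D d) : d * c * d = c * d * c := by
  rcases hP.hD.1.2 d hd c hc.1 with h | h
  · exfalso
    refine hc.2 ?_
    have := mul_eq_one_iff_eq_inv.1 (by rwa [pow_two] at h : d * c * (d * c) = 1)
    rw [mul_inv_rev, hP.inv hd, hP.inv hc.1] at this
    exact this
  · have h' : d * c * d * (c * d * c) = 1 := by rw [← h, pow_three]; group
    rw [eq_inv_of_mul_eq_one_left h', mul_inv_rev, mul_inv_rev, hP.inv hd, hP.inv hc.1, mul_assoc]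

omit [Finite G] in
theorem third_far {d c : G} (hd : d ∈ D) (hc : c ∈ far D d) : d * c * d ∈ far D d := by
  refine ⟨?_, fun h => hc.2 ?_⟩
  · have := hP.hD.2.1 d c hc.1
    rwa [hP.inv hd] at this
  · have h1 := (Commute.conj_iff d).2 h
    rwa [mul_inv_cancel_right, show d * (d * c * d) * d⁻¹ = c by
      rw [← mul_assoc d, ← mul_assoc d, hP.sq hd, one_mul, mul_inv_cancel_right]] at h1

/-- far members commuting with neither of a far member and its image -/
abbrev apart (D : Set G) (d c : G) : Set G :=
  {y | y ∈ far D d ∧ ¬ Commute c y ∧ ¬ Commute (d * c * d) y}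

/-- the far set through a fixed member and its image -/
theorem far_split {d c : G} (hd : d ∈ D) (hc : c ∈ far D d) :
    (far D d).ncard + 2 * (perp₂ D d c).ncard =
      2 + 2 * (perp D d).ncard + (apart D d c).ncard := by
  classical
  set c' := d * c * d with hc'
  have hc'f := hP.third_far hd hc
  have hlin : c * c' * c = d := by
    have e := hP.third_eq hd hc
    rw [hc', e, show c * (c * d * c) * c = c * c * d * (c * c) by group, hP.sq hc.1, one_mul, mul_one]
  have key : ∀ x ∈ far D d, (perp D x ∩ far D d).ncard + (perp₂ D d c).ncard = (perp D d).ncard := by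
    intro x hx
    rw [hP.trace_ncard hd hc hd hx, hP.perp_ncard hd hx.1, ← Set.ncard_union_eq ?_ (Set.toFinite _) (Set.toFinite _)]
    · congr 1
      ext y
      constructor
      · rintro (h | h)
        · exact h.1
        · exact h.2
      · intro hy
        rcases hP.mem_cases (a := d) hy.1 with rfl | h | h
        · exact absurd hy.2.2.symm hx.2
        · exact Or.inr ⟨h, hy⟩
        · exact Or.inl ⟨hy, h⟩
    · rw [Set.disjoint_left]
      exact fun y h h' => h.2.2 h'.1.2.2
  have hsplit : far D d = insert c (perp D c ∩ far D d) ∪ insert c' (perp D c' ∩ far D d) ∪ apart D d c := by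
    ext y
    constructor
    · intro hy
      by_cases h1 : Commute c y
      · left; left
        by_cases e : y = c
        · exact Or.inl e
        · exact Or.inr ⟨⟨hy.1, e, h1⟩, hy⟩
      by_cases h2 : Commute c' y
      · left; right
        by_cases e : y = c'
        · exact Or.inl e
        · exact Or.inr ⟨⟨hy.1, e, h2⟩, hy⟩
      · exact Or.inr ⟨hy, h1, h2⟩
    · rintro (((rfl | h) | (rfl | h)) | h)
      · exact hc
      · exact h.2
      · exact hc'f
      · exact h.2
      · exact h.1
  have hboth : ∀ y ∈ far D d, Commute c y → Commute c' y → False := fun y hy h1 h2 =>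
    hy.2 (hlin ▸ (h1.mul_left h2).mul_left h1)
  have hd1 : Disjoint (insert c (perp D c ∩ far D d)) (insert c' (perp D c' ∩ far D d)) := by
    rw [Set.disjoint_left]
    intro y hy hy'
    have hy1 : Commute c y := by rcases hy with rfl | h <;> [exact Commute.refl _; exact h.1.2.2]
    have hy2 : Commute c' y := by rcases hy' with rfl | h <;> [exact Commute.refl _; exact h.1.2.2]
    have hyf : y ∈ far D d := by rcases hy with rfl | h <;> [exact hc; exact h.2]
    exact hboth y hyf hy1 hy2
  have hd2 : Disjoint (insert c (perp D c ∩ far D d) ∪ insert c' (perp D c' ∩ far D d)) (apart D d c) := by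
    rw [Set.disjoint_left]
    rintro y ((rfl | h) | (rfl | h)) h'
    · exact h'.2.1 (Commute.refl _)
    · exact h'.2.1 h.1.2.2
    · exact h'.2.2 (Commute.refl _)
    · exact h'.2.2 h.1.2.2
  have k1 := key c hc
  have k2 := key c' hc'f
  rw [hsplit, Set.ncard_union_eq hd2 (Set.toFinite _) (Set.toFinite _),
    Set.ncard_union_eq hd1 (Set.toFinite _) (Set.toFinite _),
    Set.ncard_insert_of_notMem (fun h => h.1.2.1 rfl) (Set.toFinite _),
    Set.ncard_insert_of_notMem (fun h => h.1.2.1 rfl) (Set.toFinite _)]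
  omega

/-- no affine plane exactly when nothing is apart -/
theorem noPlane_iff {d c : G} (hd : d ∈ D) (hc : c ∈ far D d) : NoPlane D ↔ apart D d c = ∅ := by
  constructor
  · intro h
    rw [Set.eq_empty_iff_forall_notMem]
    intro y hy
    refine hy.2.2 (h d hd c hc.1 y hy.1.1 hc.2 hy.1.2 hy.2.1 ?_).symm
    rintro rfl
    exact hy.2.2 (Commute.refl _)
  · intro h a ha b hb e he hab hae hbe hne
    by_contra hcom
    obtain ⟨g, hga, hgb⟩ := hP.orb_far ha ⟨hb, hab⟩ hd hc
    have hmem : g * e * g⁻¹ ∈ apart D d c := by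
      refine ⟨⟨hP.hD.2.1 g e he, ?_⟩, ?_, ?_⟩
      · rw [← hga, Commute.conj_iff]; exact hae
      · rw [← hgb, Commute.conj_iff]; exact hbe
      · rw [← hga, ← hgb, show g * a * g⁻¹ * (g * b * g⁻¹) * (g * a * g⁻¹) = g * (a * b * a) * g⁻¹ by group,
          Commute.conj_iff]
        exact fun h => hcom h.symm
    rw [h] at hmem
    exact hmem

/-- the numerical plane criterion -/
theorem noPlane_iff_card {d c : G} (hd : d ∈ D) (hc : c ∈ far D d) :
    NoPlane D ↔ (far D d).ncard + 2 * (perp₂ D d c).ncard = 2 + 2 * (perp D d).ncard := by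
  have h := hP.far_split hd hc
  rw [hP.noPlane_iff hd hc, ← Set.ncard_eq_zero (Set.toFinite _)]
  omega

end Prim

end Cfsg.Agent.Lib.FischerThm
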