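import Cfsg.Agent.Lib.FischerThm.Local
import Cfsg.Agent.Lib.FischerMTypes32.Eigen

/-!
# Fischer's theorem: the multiplicities of the commuting graph

The integrality condition for a strongly regular graph, applied to a primitive centreless class.

Owner: helper75.
-/

set_option autoImplicit false
set_option linter.style.haveILetI false
set_option linter.unusedSectionVars false

namespace Cfsg.Agent.Lib.FischerThm

open Matrix Cfsg.Agent.Lib.FischerMTypes32.Eigen

section Graph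

theorem exists_trace_nat' {α K : Type*} [Fintype α] [DecidableEq α] [Field K] [CharZero K] {E : Matrix α α K}
    (hE : E * E = E) : ∃ r : ℕ, E.trace = r := by
  have hf : Matrix.toLin' E ∘ₗ Matrix.toLin' E = Matrix.toLin' E := by rw [← Matrix.toLin'_mul, hE]
  have hp : LinearMap.IsProj (LinearMap.range (Matrix.toLin' E)) (Matrix.toLin' E) :=
    ⟨fun x => LinearMap.mem_range_self _ x, by
      rintro _ ⟨x, rfl⟩
      exact LinearMap.congr_fun hf x⟩
  exact ⟨_, by rw [← Matrix.trace_toLin'_eq, hp.trace]⟩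

variable {V : Type*} [Fintype V] [DecidableEq V] {R : V → V → Prop} [DecidableRel R] {k l m : ℕ}

/-- the count of paths of length two from one vertex -/
theorem srg_count (h : Srg R k l m) [Nonempty V] :
    (k : ℚ) * k = ((k : ℚ) - m) + ((l : ℚ) - m) * k + m * Fintype.card V := by
  have h1 := congrArg (· * onesQ V) (sq_adj h)
  simp only [add_mul, Matrix.smul_mul, Matrix.one_mul, mul_assoc, adj_ones h, Matrix.mul_smul, ones_sq] at h1
  obtain ⟨x⟩ := ‹Nonempty V›
  have h2 := congrFun (congrFun h1 x) x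
  simp [onesQ] at h2
  linarith

/-- multiplicities of the two eigenvalues -/
theorem srg_mult (h : Srg R k l m) [Nonempty V] (hΔ : 0 < ((l : ℤ) - m) ^ 2 + 4 * ((k : ℤ) - m)) :
    ∃ r s : ℕ, r + s + 1 = Fintype.card V ∧
      ((r : ℤ) - s) ^ 2 * (((l : ℤ) - m) ^ 2 + 4 * ((k : ℤ) - m)) =
        (2 * (k : ℤ) + ((Fintype.card V : ℤ) - 1) * ((l : ℤ) - m)) ^ 2 := by
  have hcount := srg_count h
  set n : ℚ := (Fintype.card V : ℚ) with hn
  have hn0 : n ≠ 0 := by simp [hn, Fintype.card_ne_zero]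
  set a : ℚ := (l : ℚ) - m with ha
  set Δ : ℚ := a ^ 2 + 4 * ((k : ℚ) - m) with hD
  set c : ℚ := (2 * (k : ℚ) - a) / n with hc
  set X : Matrix V V ℚ := (2 : ℚ) • adjQ R - a • (1 : Matrix V V ℚ) - c • onesQ V with hX
  set E : Matrix V V ℚ := 1 - (1 / n) • onesQ V with hE
  have hEE : E * E = E := by
    rw [hE]
    simp only [sub_mul, mul_sub, Matrix.one_mul, Matrix.mul_one, Matrix.smul_mul, Matrix.mul_smul, ones_sq, ← hn,
      smul_smul]
    match_scalars <;> field_simp <;> ring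
  have hXE : X * E = X := by
    rw [hX, hE]
    simp only [sub_mul, mul_sub, Matrix.smul_mul, Matrix.mul_smul, Matrix.one_mul, Matrix.mul_one, adj_ones h,
      ones_sq, ← hn, smul_smul]
    match_scalars <;> simp only [hc] <;> field_simp <;> ring
  have hEX : E * X = X := by
    rw [hX, hE]
    simp only [sub_mul, mul_sub, Matrix.smul_mul, Matrix.mul_smul, Matrix.one_mul, Matrix.mul_one, ones_adj h,
      ones_sq, ← hn, smul_smul]
    match_scalars <;> simp only [hc] <;> field_simp <;> ring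
  have hJ : 4 * (m : ℚ) - c * (2 * (k : ℚ) - a) = -(Δ / n) := by
    rw [hc, hD]
    field_simp
    linear_combination -4 * hcount
  have hXX : X * X = Δ • E := by
    rw [hX, hE]
    simp only [sub_mul, mul_sub, Matrix.smul_mul, Matrix.mul_smul, Matrix.one_mul, Matrix.mul_one, adj_ones h,
      ones_adj h, ones_sq, sq_adj h, ← hn, smul_smul]
    match_scalars
    · rw [hD, ha]; ring
    · rw [ha]; ring
    · have e : c * n = 2 * (k : ℚ) - a := by rw [hc]; field_simp
      linear_combination hJ + c * e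
  have htE : E.trace = n - 1 := by
    rw [hE, Matrix.trace_sub, Matrix.trace_smul, Matrix.trace_one, ← hn]
    simp [Matrix.trace, onesQ, ← hn, hn0]
  have htX : X.trace = -(2 * (k : ℚ) + (n - 1) * a) := by
    rw [hX, Matrix.trace_sub, Matrix.trace_sub, Matrix.trace_smul, Matrix.trace_smul, Matrix.trace_smul,
      Matrix.trace_one, ← hn]
    simp [Matrix.trace, onesQ, adjQ, h.irrefl, ← hn, hc]
    field_simp
    ring
  let φ : Matrix V V ℚ →+* Matrix V V ℝ := (Rat.castHom ℝ).mapMatrix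
  have hφs : ∀ (q : ℚ) (M : Matrix V V ℚ), φ (q • M) = (q : ℝ) • φ M := fun q M => by
    ext i j; simp [φ]
  have hφt : ∀ M : Matrix V V ℚ, (φ M).trace = (M.trace : ℝ) := fun M => by simp [φ, Matrix.trace]
  have hΔQ : (Δ : ℝ) = (((l : ℤ) - m) ^ 2 + 4 * ((k : ℤ) - m) : ℤ) := by rw [hD, ha]; push_cast; ring
  have hΔ0 : (0 : ℝ) < Δ := by rw [hΔQ]; exact_mod_cast hΔ
  set q : ℝ := Real.sqrt Δ with hq
  have hq0 : q ≠ 0 := (Real.sqrt_pos.2 hΔ0).ne'
  have hqq : q * q = Δ := Real.mul_self_sqrt hΔ0.le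
  have hP : ∀ ε : ℝ, ε * ε = 1 → ∃ r : ℕ,
      (1 / 2 : ℝ) * ((n : ℝ) - 1) + ε / (2 * q) * (X.trace : ℝ) = r := by
    intro ε hε
    have hM : ((1 / 2 : ℝ) • φ E + (ε / (2 * q)) • φ X) * ((1 / 2 : ℝ) • φ E + (ε / (2 * q)) • φ X) =
        (1 / 2 : ℝ) • φ E + (ε / (2 * q)) • φ X := by
      simp only [add_mul, mul_add, Matrix.smul_mul, Matrix.mul_smul, ← map_mul, hEE, hXE, hEX, hXX, hφs, smul_smul]
      match_scalars
      · field_simp
        linear_combination (Δ : ℝ) * hε - hqq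
      · field_simp
        ring
    obtain ⟨r, hr⟩ := exists_trace_nat' hM
    refine ⟨r, ?_⟩
    rw [← hr, Matrix.trace_add, Matrix.trace_smul, Matrix.trace_smul, hφt, hφt, htE]
    simp
  obtain ⟨r, hr⟩ := hP 1 (one_mul 1)
  obtain ⟨s, hs⟩ := hP (-1) (by norm_num)
  refine ⟨r, s, ?_, ?_⟩
  · have e : ((r + s + 1 : ℕ) : ℝ) = ((Fintype.card V : ℕ) : ℝ) := by
      push_cast
      rw [← hr, ← hs, hn]
      push_cast
      field_simp
      ring
    exact_mod_cast e
  · have e : (((r : ℤ) - s : ℤ) : ℝ) ^ 2 * (Δ : ℝ) =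
        ((2 * (k : ℤ) + ((Fintype.card V : ℤ) - 1) * ((l : ℤ) - m) : ℤ) : ℝ) ^ 2 := by
      push_cast
      rw [← hr, ← hs, ← hqq, htX, ha, hn]
      push_cast
      field_simp
      ring
    rw [hΔQ] at e
    exact_mod_cast e

/-- the discriminant is a square outside the conference case -/
theorem srg_square (h : Srg R k l m) [Nonempty V] (hΔ : 0 < ((l : ℤ) - m) ^ 2 + 4 * ((k : ℤ) - m))
    (hnc : 2 * (k : ℤ) + ((Fintype.card V : ℤ) - 1) * ((l : ℤ) - m) ≠ 0) :
    IsSquare (((l : ℤ) - m) ^ 2 + 4 * ((k : ℤ) - m)) := by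
  obtain ⟨r, s, -, e⟩ := srg_mult h hΔ
  have h0 : ((r : ℤ) - s) ≠ 0 := by
    intro h0
    rw [h0, zero_pow two_ne_zero, zero_mul] at e
    exact hnc (eq_zero_of_pow_eq_zero e.symm)
  obtain ⟨t, ht⟩ := (Int.pow_dvd_pow_iff two_ne_zero).1 (Dvd.intro _ e)
  refine ⟨t, mul_left_cancel₀ (pow_ne_zero 2 h0) (e.trans ?_)⟩
  rw [ht]; ring

end Graph

open Cfsg Cfsg.Agent.Lib.FischerMTypes.Primitive

universe u

variable {G : Type u} [Group G] [Finite G] {D : Set G}

namespace Prim

variable (hP : Prim D)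
include hP

/-- a far pair has fewer common neighbours than one member -/
theorem trace_lt {d c b : G} (hd : d ∈ D) (hc : c ∈ far D d) (hb : b ∈ perp D d) :
    (perp₂ D d c).ncard < (perp D d).ncard := by
  by_contra hge
  push Not at hge
  have hfar : ∀ x y : G, x ∈ D → y ∈ far D x → perp D x = perp D y := by
    intro x y hx hy
    have hn : (perp D x).ncard ≤ (perp₂ D x y).ncard := by
      rw [hP.perp_ncard hx hd, hP.trace_ncard hx hy hd hc]; exact hge
    have h1 := Set.eq_of_subset_of_ncard_le (fun _ h => h.1 : perp₂ D x y ⊆ perp D x) hn (Set.toFinite _)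
    refine Set.eq_of_subset_of_ncard_le (fun z hz => (h1 ▸ hz : z ∈ perp₂ D x y).2) ?_ (Set.toFinite _)
    rw [hP.perp_ncard hy.1 hx]
  have hstep : ∀ z ∈ D, ∀ x ∈ D, perp D (z * x * z) = perp D x := by
    intro z hz x hx
    by_cases h : Commute z x
    · rw [h.eq, mul_assoc, hP.sq hz, mul_one]
    · exact (hfar x (z * x * z) hx (by
        have := hP.third_far hx ⟨hz, fun e => h e.symm⟩
        rwa [hP.third_eq hx ⟨hz, fun e => h e.symm⟩] at this)).symm
  have hall : ∀ g : G, perp D (g * d * g⁻¹) = perp D d := by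
    intro g
    have hg : g ∈ Subgroup.closure D := hP.hD.2.2 ▸ Subgroup.mem_top g
    induction hg using Subgroup.closure_induction_left with
    | one => simp
    | mul_left z hz w _ ih =>
      rw [show z * w * d * (z * w)⁻¹ = z * (w * d * w⁻¹) * z⁻¹ by group, hP.inv hz,
        hstep z hz _ (hP.hD.2.1 w d hd), ih]
    | inv_mul_cancel z hz w _ ih =>
      rw [show z⁻¹ * w * d * (z⁻¹ * w)⁻¹ = z⁻¹ * (w * d * w⁻¹) * z⁻¹⁻¹ by group, inv_inv, hP.inv hz,
        hstep z hz _ (hP.hD.2.1 w d hd), ih]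
  obtain ⟨g, hg⟩ := hP.hprim.1 d hd b hb.1
  have h := hall g
  rw [hg] at h
  exact (h ▸ hb : b ∈ perp D b).2.1 rfl

/-- multiplicities for the commuting graph -/
theorem mult {d c b : G} (hd : d ∈ D) (hc : c ∈ far D d) (hb : b ∈ perp D d) :
    ∃ r s : ℕ, r + s + 1 = D.ncard ∧
      ((r : ℤ) - s) ^ 2 * ((((perp₂ D d b).ncard : ℤ) - (perp₂ D d c).ncard) ^ 2 +
          4 * (((perp D d).ncard : ℤ) - (perp₂ D d c).ncard)) =
        (2 * ((perp D d).ncard : ℤ) +
          ((D.ncard : ℤ) - 1) * (((perp₂ D d b).ncard : ℤ) - (perp₂ D d c).ncard)) ^ 2 := by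
  classical
  letI : Fintype G := Fintype.ofFinite G
  have hcount : ∀ (S : Set G) (hS : S ⊆ D) (p : ↥D → Prop) [DecidablePred p],
      (∀ z : ↥D, p z ↔ (z : G) ∈ S) → (Finset.univ.filter p).card = S.ncard := by
    intro S hS p _ hp
    rw [Set.ncard_eq_toFinset_card', ← Finset.card_map (Function.Embedding.subtype _)]
    congr 1
    ext y
    simp only [Finset.mem_map, Finset.mem_filter, Finset.mem_univ, true_and, Function.Embedding.subtype_apply,
      Set.mem_toFinset]
    exact ⟨fun ⟨z, hz, e⟩ => e ▸ (hp z).1 hz, fun hy => ⟨⟨y, hS hy⟩, (hp ⟨y, hS hy⟩).2 hy, rfl⟩⟩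
  have hs : Srg (fun x y : ↥D => (y : G) ∈ perp D (x : G)) (perp D d).ncard (perp₂ D d b).ncard
      (perp₂ D d c).ncard := by
    refine ⟨fun x y h => ⟨x.2, fun e => h.2.1 e.symm, h.2.2.symm⟩, fun x h => h.2.1 rfl, fun x => ?_,
      fun x y h => ?_, fun x y hne h => ?_⟩
    · rw [hcount (perp D (x : G)) (fun _ h => h.1) _ fun _ => Iff.rfl]
      exact hP.perp_ncard x.2 hd
    · refine (hcount (perp₂ D (x : G) y) (fun _ h => h.1.1) _ fun _ => Iff.rfl).trans ?_
      exact hP.edge_ncard x.2 h hd hb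
    · have hf : (y : G) ∈ far D x := ⟨y.2, fun e => h ⟨y.2, fun e' => hne (Subtype.ext e'.symm), e⟩⟩
      refine (hcount (perp₂ D (x : G) y) (fun _ h => h.1.1) _ fun _ => Iff.rfl).trans ?_
      exact hP.trace_ncard x.2 hf hd hc
  haveI : Nonempty ↥D := ⟨⟨d, hd⟩⟩
  have hlt := hP.trace_lt hd hc hb
  have hΔ : 0 < (((perp₂ D d b).ncard : ℤ) - (perp₂ D d c).ncard) ^ 2 +
      4 * (((perp D d).ncard : ℤ) - (perp₂ D d c).ncard) := by
    have := sq_nonneg (((perp₂ D d b).ncard : ℤ) - (perp₂ D d c).ncard)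
    omega
  obtain ⟨r, s, h1, h2⟩ := srg_mult hs hΔ
  have hcard : Fintype.card ↥D = D.ncard := by rw [← Nat.card_eq_fintype_card, Nat.card_coe_set_eq]
  rw [hcard] at h1 h2
  exact ⟨r, s, h1, h2⟩

end Prim

end Cfsg.Agent.Lib.FischerThm
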